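import Cfsg.Agent.H693.Sch.Value
import Cfsg.Agent.H329.PQ.Trace
import Cfsg.Agent.H766.PQ.A01

/-!
# S4612: constituents of permutation characters in the principal block (helper426)

`G` acts on `X` with colours `c` (the orbits on pairs), `ω` a spherical function with values
`χ g = f / #X * ∑ x, ω (c x (g • x))`, `k u` the subdegrees.

* `mem_of_hecke` : if `k u * ω u` is an integer congruent to `k u` modulo `p` for all colours `u`, then `χ ∈ B0 p G`.
* `exists_mem` : the same from the eigenvector data of helper816.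
* `not_same` : a character of degree `f` in `B0 p G`, the `q`-part of `|G|` divides `f`: `¬ Same p q G`.
-/

set_option autoImplicit false

open Cfsg Cfsg.Agent

namespace Cfsg.Agent.H426.PQ

open Cfsg.Agent.H317.PQ Cfsg.Agent.Characters.Core Cfsg.Agent.Blocks.Basic Cfsg.Agent.Blocks.Local
open Cfsg.Agent.H816.IMEig Cfsg.Agent.H329.PQ

universe u v

variable {p q : ℕ} {G : Type u} [Group G]

theorem sum_coeff [Fintype G] (χ : IrrCharacter G) [Decidable (χ ∈ B0 p G)] :
    ∑ g : G, blockCoeff (B0 p G) g * (χ : G → ℂ) g = if χ ∈ B0 p G then (χ : G → ℂ) 1 else 0 := by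
  have h4 := Cfsg.Agent.Blocks.BlockIdem.lin_blockCoeff (B0 p G) χ
  rw [Cfsg.Agent.Blocks.ConvCentral.lin_def] at h4
  rw [h4]
  congr

/-- **The Hecke test.** -/
theorem mem_of_hecke [Finite G] (hp : p.Prime) {X : Type v} [MulAction G X] [Fintype X] {ι : Type} [Fintype ι]
    [DecidableEq ι] {c : X → X → ι} {o : ι} (h : Col G X ι c o) (x₀ : X) {ω : ι → ℂ} {f : ℕ} (χ : IrrCharacter G)
    (hf : charDegree (χ : G → ℂ) = f) (hχ : ∀ g : G, (χ : G → ℂ) g = (f : ℂ) / (Nat.card X : ℂ) * ∑ x, ω (c x (g • x)))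
    (hP : ∀ u, ∃ z : ℤ, (Nat.card {y // c x₀ y = u} : ℂ) * ω u = (Nat.card {y // c x₀ y = u} : ℂ) + p * z) :
    χ ∈ B0 p G := by
  classical
  have := Fintype.ofFinite G
  obtain ⟨M, hM⟩ := Cfsg.Agent.Blocks.ExistsModular.exists_isPModular hp
  have hMp : M.IsPrime := isPrime_of_isPModular hM
  have hX : (Nat.card X : ℂ) ≠ 0 := by
    have : Nonempty X := ⟨x₀⟩
    exact_mod_cast (Nat.card_pos (α := X)).ne'
  set C : G → ℂ := fun g => blockCoeff (B0 p G) g with hC
  have hCc : ∀ g s : G, C (s * g * s⁻¹) = C g := fun g s =>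
    (blockCoeff_isConj (B0 p G) (isConj_iff.2 ⟨s, rfl⟩)).symm
  have hCm : ∀ g, MemLocalRing M (C g) := fun g => coeff_mem hp hM g
  -- the coefficient of the block idempotent at the pair `(x₀, y)`
  set F : X → ℂ := fun y => ∑ g : G, if g • x₀ = y then C g else 0 with hF
  have hFm : ∀ y, MemLocalRing M (F y) := by
    intro y
    refine memLocalRing_sum fun g _ => ?_
    split_ifs
    · exact hCm g
    · exact memLocalRing_zero
  have hFinv : ∀ (s : G) (y : X), s • x₀ = x₀ → F (s • y) = F y := by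
    intro s y hs
    rw [hF]
    refine Fintype.sum_equiv (MulAut.conj s⁻¹).toEquiv _ _ fun g => ?_
    have h4 : (MulAut.conj s⁻¹).toEquiv g = s⁻¹ * g * s⁻¹⁻¹ := rfl
    have h5 : C (s⁻¹ * g * s⁻¹⁻¹) = C g := hCc g s⁻¹
    rw [h4, h5]
    have h6 : (s⁻¹ * g * s⁻¹⁻¹) • x₀ = y ↔ g • x₀ = s • y := by
      rw [inv_inv, mul_smul, mul_smul, hs, inv_smul_eq_iff]
    simp only [h6]
  have hFcol : ∀ y y' : X, c x₀ y = c x₀ y' → F y = F y' := by
    intro y y' hy
    obtain ⟨s, hs1, hs2⟩ := h.tr x₀ y x₀ y' hy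
    rw [← hs2, hFinv s y hs1]
  set Φ : ι → ℂ := fun u => if hu : ∃ y, c x₀ y = u then F hu.choose else 0 with hΦ
  have hΦm : ∀ u, MemLocalRing M (Φ u) := by
    intro u
    rw [hΦ]
    by_cases hu : ∃ y, c x₀ y = u
    · simp only [dif_pos hu]
      exact hFm _
    · simp only [dif_neg hu]
      exact memLocalRing_zero
  have hΦF : ∀ y, Φ (c x₀ y) = F y := by
    intro y
    have hu : ∃ y', c x₀ y' = c x₀ y := ⟨y, rfl⟩
    rw [hΦ]
    simp only [dif_pos hu]
    exact hFcol _ _ hu.choose_spec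
  -- sums over the colours
  have hsum : ∀ ψ : ι → ℂ, ∑ g : G, C g * ψ (c x₀ (g • x₀)) =
      ∑ u, (Nat.card {y // c x₀ y = u} : ℂ) * ψ u * Φ u := by
    intro ψ
    have h1 : ∀ g : G, C g * ψ (c x₀ (g • x₀)) = ∑ y : X, (if g • x₀ = y then C g else 0) * ψ (c x₀ y) := by
      intro g
      rw [Finset.sum_eq_single (g • x₀)]
      · rw [if_pos rfl]
      · intro y _ hy
        rw [if_neg (Ne.symm hy), zero_mul]
      · intro hy; exact absurd (Finset.mem_univ _) hy
    rw [Finset.sum_congr rfl fun g _ => h1 g, Finset.sum_comm]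
    have h2 : ∀ y : X, ∑ g : G, (if g • x₀ = y then C g else 0) * ψ (c x₀ y) = ψ (c x₀ y) * Φ (c x₀ y) := by
      intro y
      rw [← Finset.sum_mul, hΦF, mul_comm]
    rw [Finset.sum_congr rfl fun y _ => h2 y]
    have h3 : ∀ u, (Nat.card {y // c x₀ y = u} : ℂ) * ψ u * Φ u = ∑ y : X, if c x₀ y = u then ψ u * Φ u else 0 := by
      intro u
      rw [← Finset.sum_filter, Finset.sum_const, nsmul_eq_mul, ← mul_assoc, Nat.card_eq_fintype_card,
        Fintype.card_subtype]
    rw [Finset.sum_congr rfl fun u _ => h3 u, Finset.sum_comm]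
    refine Finset.sum_congr rfl fun y _ => ?_
    rw [Finset.sum_ite_eq]
    simp
  -- the trivial character
  have htriv : ∑ u, (Nat.card {y // c x₀ y = u} : ℂ) * Φ u = 1 := by
    have h1 := sum_coeff (p := p) (⟨_, isIrrCharacter_one⟩ : IrrCharacter G)
    have hmem : (⟨_, isIrrCharacter_one⟩ : IrrCharacter G) ∈ B0 p G := by
      rw [B0_eq hp hM]
      exact Cfsg.Agent.Blocks.PrincipalSection.one_mem_principalBlock
    rw [if_pos hmem] at h1
    have h2 := hsum fun _ => 1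
    simp only [mul_one] at h2 h1
    rw [← h2]
    simpa using h1
  -- the character `χ`
  have hval : ∑ g : G, C g * (χ : G → ℂ) g =
      (f : ℂ) * ∑ u, (Nat.card {y // c x₀ y = u} : ℂ) * ω u * Φ u := by
    rw [← hsum ω]
    have h1 : ∀ x : X, ∑ g : G, C g * ω (c x (g • x)) = ∑ g : G, C g * ω (c x₀ (g • x₀)) := by
      intro x
      obtain ⟨s, rfl⟩ := h.exists_smul x₀ x
      refine Fintype.sum_equiv (MulAut.conj s⁻¹).toEquiv _ _ fun g => ?_
      have h4 : (MulAut.conj s⁻¹).toEquiv g = s⁻¹ * g * s⁻¹⁻¹ := rfl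
      have h5 : C (s⁻¹ * g * s⁻¹⁻¹) = C g := hCc g s⁻¹
      rw [h4, h5]
      have h6 := h.inv s x₀ ((s⁻¹ * g * s⁻¹⁻¹) • x₀)
      have h7 : s • ((s⁻¹ * g * s⁻¹⁻¹) • x₀) = g • s • x₀ := by
        rw [inv_inv, smul_smul, smul_smul]
        congr 1
        group
      rw [h7] at h6
      rw [h6]
    calc ∑ g : G, C g * (χ : G → ℂ) g
        = ∑ g : G, ∑ x, (f : ℂ) / (Nat.card X : ℂ) * (C g * ω (c x (g • x))) := by
          refine Finset.sum_congr rfl fun g _ => ?_
          rw [hχ, Finset.mul_sum, Finset.mul_sum]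
          refine Finset.sum_congr rfl fun x _ => ?_
          ring
      _ = ∑ x : X, (f : ℂ) / (Nat.card X : ℂ) * ∑ g : G, C g * ω (c x₀ (g • x₀)) := by
          rw [Finset.sum_comm]
          refine Finset.sum_congr rfl fun x _ => ?_
          rw [← Finset.mul_sum, h1 x]
      _ = _ := by
          rw [Finset.sum_const, Finset.card_univ, nsmul_eq_mul, Nat.card_eq_fintype_card]
          have hX' : (Fintype.card X : ℂ) ≠ 0 := by rwa [Nat.card_eq_fintype_card] at hX
          field_simp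
  by_contra hcon
  have h1 := sum_coeff (p := p) χ
  rw [if_neg hcon] at h1
  have h2 : (f : ℂ) * ∑ u, (Nat.card {y // c x₀ y = u} : ℂ) * ω u * Φ u = 0 := by
    rw [← hval]
    exact h1
  have hf0 : (f : ℂ) ≠ 0 := by
    rw [← hf]
    exact_mod_cast (charDegree_pos χ.2).ne'
  have h3 := (mul_eq_zero.1 h2).resolve_left hf0
  choose z hz using hP
  have h4 : (1 : ℂ) = ∑ u, (p : ℂ) * ((-(z u) : ℤ) * Φ u) := by
    have h5 : ∀ u, (p : ℂ) * ((-(z u) : ℤ) * Φ u) =
        (Nat.card {y // c x₀ y = u} : ℂ) * Φ u - (Nat.card {y // c x₀ y = u} : ℂ) * ω u * Φ u := by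
      intro u
      rw [hz u]
      push_cast
      ring
    rw [Finset.sum_congr rfl fun u _ => h5 u, Finset.sum_sub_distrib, htriv, h3, sub_zero]
  have h5 : MemLocalIdeal M (1 : ℂ) := by
    rw [h4]
    exact memLocalIdeal_sum fun u _ => memLocalIdeal_mul_right (memLocalIdeal_p hM)
      (memLocalRing_mul (memLocalRing_intCast _) (hΦm u))
  have h6 : MemLocalIdeal M ((1 : ℕ) : ℂ) := by rwa [Nat.cast_one]
  rw [memLocalIdeal_natCast_iff hM] at h6
  exact hp.one_lt.ne' (Nat.dvd_one.1 h6)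

/-- from the eigenvector data: a constituent of degree `f` in the principal `p`-block -/
theorem exists_mem [Finite G] (hp : p.Prime) {X : Type v} [MulAction G X] [Finite X] {ι : Type} [Fintype ι]
    [DecidableEq ι] {c : X → X → ι} {o : ι} (h : Col G X ι c o) {x₀ z₀ : X} {t : ι → ι → ℕ}
    {θ : ℂ} {ω : ι → ℂ} (ht : ∀ u w, Nat.card {y // c x₀ y = u ∧ c z₀ y = w} = t u w)
    (hE : Col.Eig (c x₀ z₀) o t θ ω)
    {f : ℕ} (hf : (f : ℂ) * ∑ u, ((∑ w, t u w : ℕ) : ℂ) * ω u ^ 2 = (Nat.card X : ℂ))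
    (hP : ∀ u, ∃ z : ℤ, ((∑ w, t u w : ℕ) : ℂ) * ω u = ((∑ w, t u w : ℕ) : ℂ) + p * z) :
    ∃ χ : IrrCharacter G, charDegree (χ : G → ℂ) = f ∧ χ ∈ B0 p G := by
  classical
  have := Fintype.ofFinite X
  obtain ⟨χ, h1, h2, h3⟩ := H693.Sch.exists_values h ht hE hf
  have hdeg : charDegree χ = f := charDegree_of_eq h2
  refine ⟨⟨χ, h1⟩, hdeg, mem_of_hecke hp h x₀ ⟨χ, h1⟩ hdeg h3 fun u => ?_⟩
  have h4 : Nat.card {y // c x₀ y = u} = ∑ w, t u w := by
    have h5 := Col.kk_eq_sum (c := c) x₀ z₀ u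
    unfold Col.kk at h5
    rw [h5]
    exact Finset.sum_congr rfl fun w _ => ht u w
  rw [h4]
  exact hP u

/-- a character of `q`-defect zero in the principal `p`-block -/
theorem not_same [Finite G] (hq : q.Prime) (hqG : q ∣ Nat.card G) {d k : ℕ} (hG : ¬ q ^ (k + 1) ∣ Nat.card G)
    (hk : q ^ k ∣ d) (h : ∃ χ : IrrCharacter G, charDegree (χ : G → ℂ) = d ∧ χ ∈ B0 p G) : ¬ Same p q G := by
  intro hS
  obtain ⟨χ, rfl, h1⟩ := h
  have h3 : χ ∈ B0 q G := by
    have h4 : B0 p G = B0 q G := hS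
    rwa [← h4]
  have h5 := H766.PQ.not_defect_zero hq hqG h3
  have h6 := (hq.pow_dvd_iff_le_factorization (charDegree_pos χ.2).ne').1 hk
  have h7 : ¬ k + 1 ≤ (Nat.card G).factorization q := fun h8 =>
    hG ((hq.pow_dvd_iff_le_factorization Nat.card_pos.ne').2 h8)
  omega

end Cfsg.Agent.H426.PQ
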