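import Cfsg.Agent.H426.PQ.Hecke
import Cfsg.Agent.H227.BTenRow

/-!
# S4612: characters of the Baby Monster in principal blocks (helper426)

The constituents of the rank ten permutation character of degree `11707448673375` (helper227) and the Hecke test:
`9287037474` in `B0(3), B0(5), B0(7)`, `4375623425250` in `B0(3), B0(5), B0(13)`, `536105794455` in `B0(17)`,
`635966233056` in `B0(19)`, `9458750` in `B0(31)`.
-/

set_option autoImplicit false

open Cfsg Cfsg.Agent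

namespace Cfsg.Agent.H426.PQ.BTen

open Cfsg.Agent.H317.PQ Cfsg.Agent.Blocks.Basic Cfsg.Agent.H816.IMEig
open Cfsg.Agent.H227.BTenB Cfsg.Agent.H227.BTenDeg Cfsg.Agent.H227.BTenEigL Cfsg.Agent.H227.BTenP
open Cfsg.Agent.H227.BTenCol Cfsg.Agent.H227.BTenCnt Cfsg.Agent.H227.BTenVal

universe u

theorem mem_of_dat {θ D : ℤ} {ω : Fin 10 → ℤ} {R' : Fin 10 → Fin 10 → ℤ} {r : Fin 10 → ℤ} {f : ℕ}
    (h : Dat t nk PZ 1 θ D ω R' r 11707448673375 f) {p : ℕ} (hp : p.Prime)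
    (hz : ∀ u, ((nk u : ℤ) * ω u - D * nk u) % (D * p) = 0) :
    ∃ χ : IrrCharacter bh.Quot, charDegree (χ : bh.Quot → ℂ) = f ∧ χ ∈ B0 p bh.Quot := by
  have hE := h.toEig
  have hd := h.toDeg
  have hkC := h.hkC
  rw [← kap_R 1] at hE
  refine exists_mem hp (isCol_of bh.Quot hQ hQ') (θ := (θ : ℂ)) (ω := fun u => (ω u : ℂ) / (D : ℂ)) tt_eq hE ?_ ?_
  · rw [card_Om]
    exact hd
  · intro u
    obtain ⟨z, hz⟩ := Int.dvd_of_emod_eq_zero (hz u)
    refine ⟨z, ?_⟩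
    rw [hkC u]
    have hD : (D : ℂ) ≠ 0 := by exact_mod_cast h.hD
    have h1 := congrArg (fun x : ℤ => (x : ℂ)) hz
    push_cast at h1
    field_simp
    linear_combination h1

theorem card_quot : Nat.card bh.Quot = 4154781481226426191177580544000000 := by
  obtain ⟨e⟩ := equiv
  rw [← Nat.card_congr e.toEquiv, Cfsg.Agent.BM.KHAll.card_B]

/-- a pair of primes -/
theorem kill {p q b d : ℕ} (hq : q.Prime) (hb : q ∣ 4154781481226426191177580544000000)
    (hG : ¬ q ^ (b + 1) ∣ 4154781481226426191177580544000000) (hk : q ^ b ∣ d)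
    (h : ∃ χ : IrrCharacter bh.Quot, charDegree (χ : bh.Quot → ℂ) = d ∧ χ ∈ B0 p bh.Quot) :
    ¬ Same p q Spor.BabyMonster := by
  intro hS
  obtain ⟨e⟩ := equiv
  refine not_same (p := p) hq (by rw [card_quot]; exact hb) (by rw [card_quot]; exact hG) hk h ?_
  exact H766.PQ.Same.of_equiv e hS

theorem m3 : ∃ χ : IrrCharacter bh.Quot, charDegree (χ : bh.Quot → ℂ) = 9287037474 ∧ χ ∈ B0 3 bh.Quot :=
  mem_of_dat dat_9287037474 (by norm_num) (by decide +kernel)

theorem m5 : ∃ χ : IrrCharacter bh.Quot, charDegree (χ : bh.Quot → ℂ) = 9287037474 ∧ χ ∈ B0 5 bh.Quot :=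
  mem_of_dat dat_9287037474 (by norm_num) (by decide +kernel)

theorem m7 : ∃ χ : IrrCharacter bh.Quot, charDegree (χ : bh.Quot → ℂ) = 9287037474 ∧ χ ∈ B0 7 bh.Quot :=
  mem_of_dat dat_9287037474 (by norm_num) (by decide +kernel)

theorem n3 : ∃ χ : IrrCharacter bh.Quot, charDegree (χ : bh.Quot → ℂ) = 4375623425250 ∧ χ ∈ B0 3 bh.Quot :=
  mem_of_dat dat_4375623425250 (by norm_num) (by decide +kernel)

theorem n5 : ∃ χ : IrrCharacter bh.Quot, charDegree (χ : bh.Quot → ℂ) = 4375623425250 ∧ χ ∈ B0 5 bh.Quot :=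
  mem_of_dat dat_4375623425250 (by norm_num) (by decide +kernel)

theorem n13 : ∃ χ : IrrCharacter bh.Quot, charDegree (χ : bh.Quot → ℂ) = 4375623425250 ∧ χ ∈ B0 13 bh.Quot :=
  mem_of_dat dat_4375623425250 (by norm_num) (by decide +kernel)

theorem m17 : ∃ χ : IrrCharacter bh.Quot, charDegree (χ : bh.Quot → ℂ) = 536105794455 ∧ χ ∈ B0 17 bh.Quot :=
  mem_of_dat dat_536105794455 (by norm_num) (by decide +kernel)

theorem m19 : ∃ χ : IrrCharacter bh.Quot, charDegree (χ : bh.Quot → ℂ) = 635966233056 ∧ χ ∈ B0 19 bh.Quot :=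
  mem_of_dat dat_635966233056 (by norm_num) (by decide +kernel)

theorem m31 : ∃ χ : IrrCharacter bh.Quot, charDegree (χ : bh.Quot → ℂ) = 9458750 ∧ χ ∈ B0 31 bh.Quot :=
  mem_of_dat dat_9458750 (by norm_num) (by decide +kernel)

end Cfsg.Agent.H426.PQ.BTen
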