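import Cfsg.Agent.H693.Sch.Value
import Cfsg.Agent.Characters.SchurBound
import Cfsg.Agent.Blocks.Central

/-!
# The values of the constituents of a permutation character at an element fixed by a point stabilizer (helper426)

`G` acts on `X` with colours `c`, `s` an element centralized by the stabilizer of `x₀`: the colour of the pair
`(y, s y)` is a function `D` of the colour of `(x₀, y)`.
-/

set_option autoImplicit false

open Cfsg Cfsg.Agent

namespace Cfsg.Agent.H426.PQ.Inv

open Cfsg.Agent.H816.IMEig Cfsg.Agent.Characters.Core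

universe u v

variable {G : Type u} [Group G] {X : Type v} [MulAction G X] {ι : Type} [Fintype ι] [DecidableEq ι]
  {c : X → X → ι} {o : ι}

/-- the colour of `(y, s y)` -/
theorem exists_D (h : Col G X ι c o) (x₀ : X) (s : G) (hs : ∀ g : G, g • x₀ = x₀ → g * s = s * g) :
    ∃ D : ι → ι, ∀ y, c y (s • y) = D (c x₀ y) := by
  classical
  refine ⟨fun u => if hu : ∃ y, c x₀ y = u then c hu.choose (s • hu.choose) else o, fun y => ?_⟩
  have hu : ∃ y', c x₀ y' = c x₀ y := ⟨y, rfl⟩
  show _ = dite _ _ _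
  rw [dif_pos hu]
  obtain ⟨g, hg1, hg2⟩ := h.tr x₀ hu.choose x₀ y hu.choose_spec
  have h1 := h.inv g hu.choose (s • hu.choose)
  have h2 : g • s • hu.choose = s • g • hu.choose := by rw [smul_smul, hs g hg1, mul_smul]
  rw [h2, hg2] at h1
  exact h1

theorem sum_D [Fintype X] (x₀ : X) {s : G} {D : ι → ι} (hD : ∀ y, c y (s • y) = D (c x₀ y)) (ω : ι → ℂ) :
    ∑ x, ω (c x (s • x)) = ∑ u, (Nat.card {y // c x₀ y = u} : ℂ) * ω (D u) := by
  classical
  have h3 : ∀ u, (Nat.card {y // c x₀ y = u} : ℂ) * ω (D u) = ∑ y : X, if c x₀ y = u then ω (D u) else 0 := by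
    intro u
    rw [← Finset.sum_filter, Finset.sum_const, nsmul_eq_mul, Nat.card_eq_fintype_card, Fintype.card_subtype]
  rw [Finset.sum_congr rfl fun u _ => h3 u, Finset.sum_comm]
  refine Finset.sum_congr rfl fun y _ => ?_
  rw [hD]
  symm
  rw [Finset.sum_ite_eq]
  simp

/-- a rational value is an integer -/
theorem exists_int [Finite G] {χ : G → ℂ} (hχ : IsIrrCharacter G χ) (g : G) {q : ℚ} (hq : χ g = (q : ℂ)) :
    ∃ z : ℤ, q = z := by
  obtain ⟨z, hz⟩ := Cfsg.Agent.Characters.SchurBound.exists_int_of_rat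
    (Cfsg.Agent.Blocks.Central.isIntegral_irr hχ g) hq
  refine ⟨z, ?_⟩
  rw [hq] at hz
  exact_mod_cast hz

end Cfsg.Agent.H426.PQ.Inv
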